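import Groth.Agent.AmpleFinGenLib.Regular
import Groth.Agent.MeroLib.ZeroScheme
import Groth.Agent.IntMultLib.Cartier

/-!
The divisor of a regular section.
-/

set_option autoImplicit false
set_option linter.style.haveILetI false
set_option backward.isDefEq.respectTransparency false

noncomputable section

universe u

open CategoryTheory CategoryTheory.Limits AlgebraicGeometry TopologicalSpace Opposite
open AmpleLib AmpleThLib
open TwistLib (genSet)

namespace AmpleFinGenLib

variable {X : Scheme.{u}} {M : X.Modules}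

theorem app_eq_smul_secOn (s : Coh.structureModule X ⟶ M) (U : X.Opens) (r : Γ(X, U)) :
    s.app U r = r • MeroLib.secOn s U := by
  refine Eq.trans ?_ (QCohLib.app_smul s U r _)
  exact congrArg (s.app U) (mul_one r).symm

theorem secOn_eq_res (s : Coh.structureModule X ⟶ M) (U : X.Opens) :
    MeroLib.secOn s U = res M le_top (s.app ⊤ (1 : Γ(X, ⊤))) :=
  (MeroLib.secOn_res s le_top).symm

/-- Charts of the divisor of a regular section. -/
theorem exists_chart (hM : PicF.IsInvertible M) (s : Coh.structureModule X ⟶ M) [Mono s] (x : X) :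
    ∃ (W : X.affineOpens) (g : Γ(M, W.1)) (c : Γ(X, W.1)), x ∈ W.1 ∧ GenOn M g ∧ c • g = MeroLib.secOn s W.1 ∧
      c ∈ nonZeroDivisors Γ(X, W.1) ∧ (PicF2.zeroScheme M s).ideal W = Ideal.span {c} := by
  obtain ⟨U, e, hxU, he⟩ := TwistLib.exists_genOn hM x
  obtain ⟨W, hW, hxW, hWU⟩ := exists_isAffineOpen_mem_and_subset hxU
  have hg := he.res (hWU : W ≤ U)
  obtain ⟨c, hc⟩ := (hg W le_rfl).2 (MeroLib.secOn s W)
  simp only [res_refl] at hc
  refine ⟨⟨W, hW⟩, res M hWU e, c, hxW, hg, hc, mem_nonZeroDivisors_iff_right.mpr fun r hr => ?_,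
    MeroLib.zeroScheme_ideal_of_genOn hM s hg hc⟩
  refine (QCohLib.app_injective_of_mono s W : _) (Eq.trans ?_ (map_zero (s.app W).hom).symm)
  rw [app_eq_smul_secOn, ← hc, smul_smul, hr, zero_smul]

theorem isEffCartier_zeroScheme (hM : PicF.IsInvertible M) (s : Coh.structureModule X ⟶ M) [Mono s] :
    BlowUp.IsEffCartierIdeal (PicF2.zeroScheme M s) := fun x => by
  obtain ⟨W, g, c, hx, -, -, hc, hI⟩ := exists_chart hM s x
  exact ⟨W, hx, c, hc, hI⟩

theorem notMem_support_zeroScheme (hM : PicF.IsInvertible M) (s : Coh.structureModule X ⟶ M) [Mono s] (x : X) :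
    x ∉ (PicF2.zeroScheme M s).support ↔ x ∈ CohB1.genLocus M s := by
  obtain ⟨W, g, c, hx, hg, hc, -, hI⟩ := exists_chart hM s x
  rw [secOn_eq_res] at hc
  have h1 := SetLike.ext_iff.mp (mem_genSet_coeff hM (s.app ⊤ (1 : Γ(X, ⊤))) hg hc) x
  have h2 := Set.ext_iff.mp (Scheme.IdealSheafData.coe_support_inter (PicF2.zeroScheme M s) W) x
  simp only [hI, Set.mem_inter_iff, Scheme.zeroLocus_span, Scheme.mem_zeroLocus_iff, Set.mem_singleton_iff,
    forall_eq, SetLike.mem_coe, hx, and_true] at h2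
  simp only [Opens.mem_inf, hx, and_true] at h1
  rw [genLocus_hom hM, h1]
  exact (not_congr h2).trans not_not

/-- The ideal of the divisor of a regular section is inverse to the module. -/
theorem idealMod_tensor_iso (hM : PicF.IsInvertible M) (s : Coh.structureModule X ⟶ M) [Mono s] :
    Nonempty (CohB1.tensorMod (ClSub.idealMod (PicF2.zeroScheme M s)) M ≅ Coh.structureModule X) := by
  set I := PicF2.zeroScheme M s with hIdef
  have hI : PicF.IsInvertible (ClSub.idealMod I) :=
    IntMultLib.isInvertible_idealMod I (isEffCartier_zeroScheme hM s)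
  let ι := (W : X.affineOpens) × {p : Γ(ClSub.idealMod I, W.1) × Γ(M, W.1) //
    GenOn (ClSub.idealMod I) p.1 ∧ GenOn M p.2 ∧
      (show Γ(X, W.1) from (ClSub.idealModι I).app W.1 p.1) • p.2 = MeroLib.secOn s W.1}
  refine ⟨(exists_iso_gens (fun a : ι => a.1.1) (fun a => shT a.2.1.1 a.2.1.2)
    (fun a => (show Γ(Coh.structureModule X, a.1.1) from (1 : Γ(X, a.1.1)))) (fun x => ?_)
    (fun a => shT_genOn a.2.2.1 a.2.2.2.1) (fun a => one_genOn _) (fun a b V ha hb => ⟨1, ?_, ?_⟩)).choose⟩
  · obtain ⟨U, e, hxU, he⟩ := TwistLib.exists_genOn hI x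
    obtain ⟨W, g, c, hx, hg, hc, hnzd, hIW⟩ := exists_chart hM s x
    obtain ⟨V, hV, hxV, hVUW⟩ := exists_isAffineOpen_mem_and_subset (U := U ⊓ W.1) (x := x) ⟨hxU, hx⟩
    have hVU : V ≤ U := fun y hy => (hVUW hy).1
    have hVW : V ≤ W.1 := fun y hy => (hVUW hy).2
    let cV : Γ(X, V) := rX hVW c
    have hgV := hg.res hVW
    have hcV : cV • res M hVW g = MeroLib.secOn s V := by
      rw [← MeroLib.secOn_res s hVW, ← hc, res_smul]
    have hIV : I.ideal ⟨V, hV⟩ = Ideal.span {cV} := MeroLib.zeroScheme_ideal_of_genOn hM s hgV hcV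
    obtain ⟨t, ht⟩ := IntMultLib.exists_section I ⟨V, hV⟩ (hIV ▸ Ideal.mem_span_singleton_self cV)
    obtain ⟨r, hr⟩ := (he.res hVU V le_rfl).2 t
    simp only [res_refl] at hr
    let a : Γ(X, V) := (ClSub.idealModι I).app V (res _ hVU e)
    have hra : r * a = cV := by
      refine (IntMultLib.idealModι_smul I V r _).symm.trans ?_
      rw [hr]
      exact ht
    have hr' : IsUnit r := by
      have haI : a ∈ I.ideal ⟨V, hV⟩ :=
        (IntMultLib.toSubscheme_app_eq_zero_iff I ⟨V, hV⟩ a).mp
          (ConcreteCategory.congr_hom (congrArg (fun φ : ClSub.idealMod I ⟶ ClSub.quotMod I => φ.app V)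
            (kernel.condition (ClSub.toSubscheme I))) _)
      rw [hIV] at haI
      obtain ⟨d, hd⟩ := Ideal.mem_span_singleton'.mp haI
      refine IsUnit.of_mul_eq_one d (sub_eq_zero.1 ?_)
      refine (he.res hVU V le_rfl).1 ?_
      simp only [res_refl, zero_smul]
      refine IntMultLib.idealModι_app_injective I V ((IntMultLib.idealModι_smul I V _ _).trans ?_)
      show (r * d - 1) * a = _
      rw [sub_mul, one_mul, mul_comm r d, mul_assoc, hra, hd, sub_self]
      exact (map_zero ((ClSub.idealModι I).app V).hom).symm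
    refine ⟨⟨⟨V, hV⟩, (t, res M hVW g), ?_, hgV, ?_⟩, hxV⟩
    · show GenOn _ t
      rw [← hr]
      intro O hO
      dsimp only
      rw [res_smul]
      simp only [smul_smul]
      refine (he.res hVU O hO).comp ?_
      obtain ⟨u, hu⟩ := hr'.map (X.presheaf.map (homOfLE hO).op).hom
      rw [← hu]
      exact ⟨fun p q h => (Units.mul_left_inj u).1 h, fun q => ⟨q * ↑u⁻¹, by simp⟩⟩
    · show (show Γ(X, V) from (ClSub.idealModι I).app V t) • res M hVW g = _
      rw [ht]
      exact hcV
  · obtain ⟨p, q⟩ := a; obtain ⟨p', q'⟩ := b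
    obtain ⟨⟨ta, ga⟩, hta, hga, hca⟩ := q
    obtain ⟨⟨tb, gb⟩, htb, hgb, hcb⟩ := q'
    dsimp only at hca hcb hta hga htb hgb ha hb ⊢
    obtain ⟨u, hu⟩ := (hga V ha).2 (res M hb gb)
    dsimp only at hu
    have e1 := congrArg (res M ha) hca
    have e2 := congrArg (res M hb) hcb
    rw [res_smul, MeroLib.secOn_res] at e1 e2
    rw [← e1, ← hu, smul_smul] at e2
    have e3 := (hga V ha).1 e2
    have e4 : res (ClSub.idealMod I) ha ta = u • res (ClSub.idealMod I) hb tb := by
      refine IntMultLib.idealModι_app_injective I V (Eq.trans ?_ (IntMultLib.idealModι_smul I V u _).symm)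
      refine (QCohLib.app_map (ClSub.idealModι I) (homOfLE ha) ta).trans ?_
      rw [mul_comm]
      refine e3.symm.trans (congrArg (· * u) ?_)
      exact (QCohLib.app_map (ClSub.idealModι I) (homOfLE hb) tb).symm
    rw [one_smul, shT_res, shT_res, ← hu, e4]
    have k1 := shT_smul u 1 (res (ClSub.idealMod I) hb tb) (res M ha ga)
    have k2 := shT_smul 1 u (res (ClSub.idealMod I) hb tb) (res M ha ga)
    rw [one_smul, mul_one] at k1
    rw [one_smul, one_mul] at k2
    rw [k1, k2]
  · rw [one_smul]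
    exact (map_one (X.presheaf.map (homOfLE ha).op).hom).trans (map_one (X.presheaf.map (homOfLE hb).op).hom).symm

end AmpleFinGenLib

end
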