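import Groth.Agent.AmpleThLib.FiniteSet
import Groth.Agent.MiscFlat6.MixedExtend
import Groth.Agent.SerreVanLib.Main
import Groth.Agent.SemiLocFreeLib.Basic
import Groth.Agent.CurvLib.StalkSum
import Groth.Agent.FinLFAnnLib.Main

/-!
Large twists by an ample module have sections generating at given finitely many points.
-/

set_option autoImplicit false
set_option linter.style.haveILetI false
set_option backward.isDefEq.respectTransparency false

noncomputable section

universe u

open CategoryTheory CategoryTheory.Limits AlgebraicGeometry TopologicalSpace Opposite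
open AmpleLib AmpleThLib
open TwistLib (genSet)

namespace AmpleFinGenLib

variable {X : Scheme.{u}}

/-- An invertible module has a generator near finitely many points of an affine open. -/
theorem exists_gen_nhd {M : X.Modules} (hM : PicF.IsInvertible M) {V : X.Opens} (hV : IsAffineOpen V)
    {Z : Set X} (hZ : Z.Finite) (hZV : Z ⊆ V) :
    ∃ (W : X.Opens) (e : Γ(M, W)), Z ⊆ W ∧ GenOn M e := by
  classical
  have h1 : FlatMod.IsFinLocFreeOfRank 1 M := fun y => by
    obtain ⟨U, hy, ⟨e⟩⟩ := hM y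
    exact ⟨U, hy, ⟨e ≪≫ (coproductUniqueIso fun _ : Fin 1 => Coh.structureModule (U : Scheme.{u})).symm⟩⟩
  have hfl : FlatMod.IsFinLocFree M := fun y => by
    obtain ⟨U, hy, h⟩ := h1 y
    exact ⟨U, 1, hy, h⟩
  haveI : Coh.IsQCoh M := FinLFAnn.isQCoh_of_isFinLocFree hfl
  obtain ⟨f, hf, e, he⟩ := SemiLocFreeLib.exists_frame_basicOpen hfl hV (hZ.toFinset.subtype (· ∈ V))
    fun y => CurvLib.nonempty_stalk_pi_of_locFree h1 y
  refine ⟨X.basicOpen f, e 0, fun z hz =>
    hf ⟨z, hZV hz⟩ (Finset.mem_subtype.mpr (hZ.mem_toFinset.2 hz)), TwistLib.genOn_of_genAt fun x hx => ?_⟩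
  have heq : (fun c : X.presheaf.stalk x => c • ProjFormLib.ger M x hx (e 0)) =
      Fintype.linearCombination (X.presheaf.stalk x) (fun i => ProjFormLib.ger M x hx (e i)) ∘
        (Equiv.funUnique (Fin 1) (X.presheaf.stalk x)).symm := by
    funext c
    simp [Fintype.linearCombination_apply]
  have h : Function.Bijective (fun c : X.presheaf.stalk x => c • ProjFormLib.ger M x hx (e 0)) :=
    heq ▸ (he x hx).comp (Equiv.funUnique (Fin 1) _).symm.bijective
  exact h

/-- Large twists have sections generating at given finitely many points. -/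
theorem exists_section_twist {L E : X.Modules} (hA : CohB1.IsAmple L) (hE : PicF.IsInvertible E) {Z : Set X}
    (hZ : Z.Finite) :
    ∃ N₀ : ℕ, ∀ N, N₀ ≤ N → ∃ s : Coh.structureModule X ⟶ CohB1.tensorMod E (CohB1.tensorPow L N),
      Z ⊆ CohB1.genLocus (CohB1.tensorMod E (CohB1.tensorPow L N)) s := by
  classical
  haveI : CompactSpace X := hA.2.1
  haveI := quasiSeparatedSpace_of_isAmple hA
  obtain ⟨-, V, -, -, hZV, -, hV⟩ := exists_locus_finset hA.1 hA hZ ⊤ (Set.subset_univ _)
  obtain ⟨W₁, g, hW₁, hg⟩ := exists_gen_nhd hE hV hZ hZV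
  obtain ⟨W₂, e, hW₂, he⟩ := exists_gen_nhd hA.1 hV hZ hZV
  obtain ⟨n, G, hn, ⟨t, ht⟩, hZG, hGle, -⟩ := exists_locus_finset hA.1 hA hZ (W₁ ⊓ W₂) (Set.subset_inter hW₁ hW₂)
  subst ht
  have hK := tensorPow_isInvertible hA.1 n
  let M : ℕ → X.Modules := fun j => CohB1.tensorMod E (CohB1.tensorPow L j)
  have hM : ∀ j, PicF.IsInvertible (M j) := fun j =>
    MiscFlat6.tensorMod_isInvertible hE (tensorPow_isInvertible hA.1 j)
  let s : ∀ j, Γ(M j, genSet hK t) := fun j =>
    shT (res E (hGle.trans inf_le_left) g) (pS (res L (hGle.trans inf_le_right) e) j)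
  have hs : ∀ j, GenOn (M j) (s j) := fun j => shT_genOn (hg.res _) (pS_genOn (he.res _) j)
  choose b hb using fun j : Fin n => MiscFlat6.exists_extend_mixed (hM j) hK t (s j)
  refine ⟨n * (∑ j, b j + 1), fun N hN => ?_⟩
  obtain ⟨u, hu⟩ := hb ⟨N % n, Nat.mod_lt _ hn⟩ (N / n) (by
    have h1 : ∑ j, b j + 1 ≤ N / n := (Nat.le_div_iff_mul_le hn).2 (by rwa [mul_comm])
    have h2 := Finset.single_le_sum (fun j _ => Nat.zero_le (b j)) (Finset.mem_univ (⟨N % n, Nat.mod_lt _ hn⟩ : Fin n))
    omega)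
  have hT := MiscFlat6.tensorMod_isInvertible (hM (N % n)) (tensorPow_isInvertible hK (N / n))
  have hgen : genSet hK t ≤ genSet hT u := fun x hx => by
    have h1 : GenOn _ (shT (s (N % n)) (res _ le_top (pS t (N / n)))) :=
      shT_genOn (hs (N % n)) (by
        rw [pS_res]
        exact pS_genOn (TwistLib.genSet_genOn hK t) _)
    have h2 := h1.genAt hx
    rw [← hu] at h2
    exact (genAt_res _ u hx).mp h2
  obtain ⟨φ⟩ := SerreVanLib.nonempty_tensor_pow_iso E hA.1 n (N % n) (N / n)
  rw [Nat.mod_add_div] at φ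
  have hN' : PicF.IsInvertible (CohB1.tensorMod E (CohB1.tensorPow L N)) :=
    MiscFlat6.tensorMod_isInvertible hE (tensorPow_isInvertible hA.1 N)
  refine ⟨QCohLib.unitHom _ (φ.inv.app ⊤ u), fun z hz => ?_⟩
  rw [genLocus_unitHom hN']
  show z ∈ genSet hN' (φ.symm.hom.app ⊤ u)
  rw [genSet_iso hT hN' φ.symm u]
  exact hgen (hZG hz)

end AmpleFinGenLib

end
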