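import Groth.Agent.AmpleFinGenLib.Main
import Groth.Agent.AssPointLib.Basic

/-!
Regular sections with prescribed nonvanishing.
-/

set_option autoImplicit false
set_option linter.style.haveILetI false
set_option backward.isDefEq.respectTransparency false

noncomputable section

universe u

open CategoryTheory CategoryTheory.Limits AlgebraicGeometry TopologicalSpace Opposite
open AmpleLib AmpleThLib
open TwistLib (genSet)
open DevissLib (St gm)

namespace AmpleFinGenLib

variable {X : Scheme.{u}}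

theorem isQCoh_of_isInvertible {M : X.Modules} (hM : PicF.IsInvertible M) : Coh.IsQCoh M :=
  FinLFAnn.isQCoh_of_isFinLocFree fun y => by
    obtain ⟨U, hy, ⟨e⟩⟩ := hM y
    exact ⟨U, 1, hy, ⟨e ≪≫ (coproductUniqueIso fun _ : Fin 1 => Coh.structureModule (U : Scheme.{u})).symm⟩⟩

/-- A section generating at every associated point is regular. -/
theorem mono_of_generating {M : X.Modules} (hM : PicF.IsInvertible M) (s : Coh.structureModule X ⟶ M)
    (h : ∀ x, Curv2.IsWeakAssPoint (Coh.structureModule X) x → x ∈ CohB1.genLocus M s) : Mono s := by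
  haveI : Coh.IsQCoh M := isQCoh_of_isInvertible hM
  haveI : Coh.IsQCoh (Coh.structureModule X) := isQCoh_of_isInvertible (fun x =>
    ⟨⊤, trivial, TwistLib.nonempty_iso_of_genOn _ (one_genOn ⊤)⟩)
  haveI : Coh.IsQCoh (kernel s) := QCohLib.isQCoh_kernel s
  refine Preadditive.mono_of_kernel_zero (((AssPointLib.isZero_iff_no_weak).2 fun x hx => ?_).eq_of_src _ _)
  have hi : Function.Injective ((St x).map (kernel.ι s)).hom := (ModuleCat.mono_iff_injective _).mp inferInstance
  have hw : Curv2.IsWeakAssPoint (Coh.structureModule X) x := by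
    obtain ⟨b, hb⟩ := (AssPointLib.weak_def _ _).1 hx
    refine (AssPointLib.weak_def _ _).2 ⟨((St x).map (kernel.ι s)).hom b, ?_⟩
    rw [← hb]
    congr 1
    ext r
    show r • ((St x).map (kernel.ι s)).hom b = 0 ↔ r • b = 0
    rw [← map_smul, map_eq_zero_iff _ hi]
  refine DevissLib.notMem_support_kernel s x ?_ (AssPointLib.weak_iff_mem_support hx)
  have hgen := h x hw
  rw [genLocus_hom hM] at hgen
  have hgen' : GenAt M (s.app ⊤ (1 : Γ(X, ⊤))) (show x ∈ (⊤ : X.Opens) from trivial) := hgen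
  let one : (St x).obj (Coh.structureModule X) :=
    gm (Coh.structureModule X) x (show x ∈ (⊤ : X.Opens) from trivial) (1 : Γ(X, ⊤))
  have h1 : Function.Surjective fun c : X.presheaf.stalk x => c • one :=
    ((one_genOn (X := X) ⊤).genAt (x := x) trivial).2
  intro a b hab
  obtain ⟨a, rfl⟩ := h1 a
  obtain ⟨b, rfl⟩ := h1 b
  simp only [map_smul] at hab
  rw [DevissLib.gm_app] at hab
  exact congrArg (· • one) (hgen'.1 hab)

/-- Tensoring with a module with a global generator changes nothing. -/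
theorem tensor_iso_of_gen {M P : X.Modules} (hM : PicF.IsInvertible M) {p : Γ(P, ⊤)} (hp : GenOn P p) :
    Nonempty (CohB1.tensorMod M P ≅ M) := by
  let ι := (U : X.Opens) × {e : Γ(M, U) // GenOn M e}
  refine ⟨(exists_iso_gens (fun a : ι => a.1) (fun a => shT a.2.1 (res P le_top p)) (fun a => a.2.1) (fun x => ?_)
    (fun a => shT_genOn a.2.2 (hp.res _)) (fun a => a.2.2) (fun a b V ha hb => ?_)).choose⟩
  · obtain ⟨U, e, hxU, he⟩ := TwistLib.exists_genOn hM x
    exact ⟨⟨U, e, he⟩, hxU⟩
  · obtain ⟨c, hc⟩ := (a.2.2 V ha).2 (res M hb b.2.1)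
    dsimp only at hc
    refine ⟨c, ?_, hc⟩
    have e : shT (c • res M ha a.2.1) ((1 : Γ(X, V)) • res P (le_top : V ≤ ⊤) p) =
        (c * 1) • shT (res M ha a.2.1) (res P (le_top : V ≤ ⊤) p) := shT_smul _ _ _ _
    rw [one_smul, mul_one, hc] at e
    simp only [shT_res, res_res]
    exact e.symm

/-- Regular sections generating at given points, on a quasi-affine scheme. -/
theorem exists_regular_section_of_quasiAffine [X.IsQuasiAffine] [IsLocallyNoetherian X] {L : X.Modules}
    (hL : PicF.IsInvertible L) {E : Set X} (hE : E.Finite) :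
    ∃ φ : Coh.structureModule X ⟶ L, Mono φ ∧
      ∀ x ∈ E, ∃ W : X.Opens, x ∈ W ∧ IsIso ((Scheme.Modules.restrictFunctor W.ι).map φ) := by
  have hO : PicF.IsInvertible (Coh.structureModule X) := fun x =>
    ⟨⊤, trivial, TwistLib.nonempty_iso_of_genOn _ (one_genOn ⊤)⟩
  haveI := isQCoh_of_isInvertible hO
  have hass := AssPointLib.finite_assPoints (M := Coh.structureModule X) (DevissLib.isCoh_structureModule X).2 ⊤
    isCompact_univ
  obtain ⟨N₀, h⟩ := exists_section_twist (isAmple_of_isQuasiAffine (hL := hO)) hL (hE.union hass)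
  obtain ⟨s, hs⟩ := h N₀ le_rfl
  obtain ⟨e⟩ := tensor_iso_of_gen hL (pS_genOn (one_genOn (X := X) ⊤) N₀)
  have hgen : ∀ x ∈ E ∪ {x | x ∈ (⊤ : X.Opens) ∧ Curv2.IsWeakAssPoint (Coh.structureModule X) x},
      ∃ W : X.Opens, x ∈ W ∧ IsIso ((Scheme.Modules.restrictFunctor W.ι).map (s ≫ e.hom)) := fun x hx => by
    obtain ⟨(W : X.Opens), hW, hxW⟩ := Opens.mem_sSup.1 (hs hx)
    haveI : IsIso ((Scheme.Modules.restrictFunctor W.ι).map s) := hW
    exact ⟨W, hxW, by rw [Functor.map_comp]; infer_instance⟩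
  refine ⟨s ≫ e.hom, mono_of_generating hL _ fun x hx => ?_, fun x hx => hgen x (Or.inl hx)⟩
  obtain ⟨W, hxW, hW⟩ := hgen x (Or.inr ⟨trivial, hx⟩)
  exact Opens.mem_sSup.2 ⟨W, hW, hxW⟩

end AmpleFinGenLib

end
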